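import Groth.Agent.L14.DeRham.ExtBaseChange
import Mathlib.RingTheory.Kaehler.Basic
import Mathlib.RingTheory.AdjoinRoot
import Mathlib.Algebra.CharP.Defs
import Mathlib.Algebra.TrivSqZeroExt.Basic
import Mathlib.RingTheory.TensorProduct.Finite

/-!
The trace of differential forms along a purely inseparable extension of degree `p`.
-/

open Polynomial TensorProduct

namespace Groth.L15.FormTrace

universe u

section Gen

variable {S : Type*} [CommRing S] {E N : Type*} [AddCommGroup E] [Module S E] [AddCommGroup N]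
  [Module S N] {m : ℕ}

/-- An alternating map killing a submodule in each variable descends to the quotient. -/
theorem exists_alternating_quotient (K : Submodule S E) (f : E [⋀^Fin m]→ₗ[S] N)
    (hf : ∀ v : Fin m → E, ∀ i, v i ∈ K → f v = 0) :
    ∃ g : (E ⧸ K) [⋀^Fin m]→ₗ[S] N, ∀ v : Fin m → E, g (fun i => Submodule.Quotient.mk (v i)) = f v := by
  classical
  have hstep : ∀ (v : Fin m → E) i x y, x - y ∈ K →
      f (Function.update v i x) = f (Function.update v i y) := by
    intro v i x y h
    rw [← sub_eq_zero, ← AlternatingMap.map_update_sub]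
    exact hf _ i (by simpa using h)
  have heq : ∀ v w : Fin m → E, (∀ i, v i - w i ∈ K) → f v = f w := by
    intro v w h
    suffices H : ∀ s : Finset (Fin m), f v = f (fun i => if i ∈ s then w i else v i) by
      simpa using H Finset.univ
    intro s
    induction s using Finset.induction with
    | empty => simp
    | insert i s hi ih =>
      rw [ih]
      have e1 : (fun j => if j ∈ s then w j else v j) =
          Function.update (fun j => if j ∈ s then w j else v j) i (v i) := by
        funext j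
        by_cases hj : j = i
        · subst hj; simp [hi]
        · simp [Function.update_of_ne hj]
      have e2 : (fun j => if j ∈ insert i s then w j else v j) =
          Function.update (fun j => if j ∈ s then w j else v j) i (w i) := by
        funext j
        by_cases hj : j = i
        · subst hj; simp
        · simp [Function.update_of_ne hj, hj]
      rw [e1, e2]
      exact hstep _ i _ _ (h i)
  let σ : E ⧸ K → E := Function.surjInv (Submodule.Quotient.mk_surjective K)
  have hσ : ∀ x, Submodule.Quotient.mk (σ x) = x :=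
    Function.surjInv_eq (Submodule.Quotient.mk_surjective K)
  refine ⟨{ toFun := fun v => f (σ ∘ v)
            map_update_add' := fun {inst} v i x y => ?_
            map_update_smul' := fun {inst} v i c x => ?_
            map_eq_zero_of_eq' := fun v i j hij hne =>
              f.map_eq_zero_of_eq _ (congrArg σ hij) hne }, fun v => ?_⟩
  · obtain rfl := Subsingleton.elim inst (instDecidableEqFin m)
    rw [Function.comp_update, Function.comp_update, Function.comp_update,
      ← AlternatingMap.map_update_add]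
    exact hstep _ i (σ (x + y)) (σ x + σ y)
      ((Submodule.Quotient.eq K).mp (by rw [hσ, Submodule.Quotient.mk_add, hσ, hσ]))
  · obtain rfl := Subsingleton.elim inst (instDecidableEqFin m)
    rw [Function.comp_update, Function.comp_update, ← AlternatingMap.map_update_smul]
    exact hstep _ i (σ (c • x)) (c • σ x)
      ((Submodule.Quotient.eq K).mp (by rw [hσ, Submodule.Quotient.mk_smul, hσ]))
  · exact heq _ _ fun i => (Submodule.Quotient.eq K).mp (hσ _)

variable {M : Type*} [AddCommGroup M] [Module S M]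

/-- The sum over the positions of the wedge with one entry replaced. -/
noncomputable def replaceMap (q : E →ₗ[S] M) (b : E →ₗ[S] S) (d : M) :
    E [⋀^Fin m]→ₗ[S] ⋀[S]^m M :=
  let T : MultilinearMap S (fun _ : Fin m => E) (⋀[S]^m M) :=
    ∑ i, (exteriorPower.ιMulti S m).toMultilinearMap.compLinearMap
      fun j => if j = i then b.smulRight d else q
  { T with
    map_eq_zero_of_eq' := fun v i j hij hne => by
      show T v = 0
      simp only [T, MultilinearMap.sum_apply, MultilinearMap.compLinearMap_apply,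
        AlternatingMap.coe_multilinearMap]
      rw [Finset.sum_eq_add i j hne ?_ (by simp) (by simp)]
      · have e : (fun l => (if l = j then b.smulRight d else q) (v l)) =
            (fun l => (if l = i then b.smulRight d else q) (v l)) ∘ Equiv.swap i j := by
          funext l
          rcases eq_or_ne l i with rfl | hli
          · simp [hne, hne.symm, hij]
          rcases eq_or_ne l j with rfl | hlj
          · simp [hne, hij]
          simp [Equiv.swap_apply_of_ne_of_ne hli hlj, hli, hlj]
        rw [e, AlternatingMap.map_swap _ _ hne, add_neg_cancel]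
      · intro l _ hl
        refine (exteriorPower.ιMulti S m).map_eq_zero_of_eq _ ?_ hne
        rw [if_neg hl.1.symm, if_neg hl.2.symm, hij] }

theorem replaceMap_apply (q : E →ₗ[S] M) (b : E →ₗ[S] S) (d : M) (v : Fin m → E) :
    replaceMap q b d v =
      ∑ i, exteriorPower.ιMulti S m fun j => if j = i then b (v j) • d else q (v j) := by
  show (∑ i, (exteriorPower.ιMulti S m).toMultilinearMap.compLinearMap
      fun j => if j = i then b.smulRight d else q) v = _
  simp only [MultilinearMap.sum_apply, MultilinearMap.compLinearMap_apply,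
    AlternatingMap.coe_multilinearMap]
  refine Finset.sum_congr rfl fun i _ => congrArg _ (funext fun j => ?_)
  split <;> rfl

theorem replaceMap_eq_zero (q : E →ₗ[S] M) (b : E →ₗ[S] S) (d : M) (v : Fin m → E) (i : Fin m)
    {s : S} (hq : q (v i) = s • d) (hb : b (v i) = 0) : replaceMap q b d v = 0 := by
  rw [replaceMap_apply]
  refine Finset.sum_eq_zero fun l _ => ?_
  by_cases hl : i = l
  · subst hl
    exact (exteriorPower.ιMulti S m).map_coord_zero i (by simp [hb])
  · have e : (fun j => if j = l then b (v j) • d else q (v j)) =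
        Function.update (Function.update (fun j => q (v j)) l (b (v l) • d)) i (s • d) := by
      funext j
      by_cases hji : j = i
      · subst hji; simp [hl, hq]
      · by_cases hjl : j = l
        · subst hjl; simp [hji]
        · simp [hji, hjl]
    rw [e, AlternatingMap.map_update_smul, Function.update_comm (Ne.symm hl), AlternatingMap.map_update_smul,
      (exteriorPower.ιMulti S m).map_eq_zero_of_eq _ (i := l) (j := i) (by simp [hl]) (Ne.symm hl),
      smul_zero, smul_zero]

end Gen

section Main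

variable (p : ℕ) [Fact p.Prime] (Λ R : Type u) [CommRing Λ] [CommRing R] [Algebra Λ R]
  [CharP R p] (a : R)

local notation "S" => AdjoinRoot (Polynomial.X ^ p - Polynomial.C a : R[X])

/-- The model of the differentials. -/
noncomputable abbrev KK : Submodule S ((S ⊗[R] Ω[R⁄Λ]) × S) :=
  Submodule.span S {((1 : S) ⊗ₜ[R] KaehlerDifferential.D Λ R a, (0 : S))}

theorem exists_derivation :
    ∃ L : Ω[S⁄Λ] →ₗ[S] ((S ⊗[R] Ω[R⁄Λ]) × S) ⧸ KK p Λ R a,
      (∀ w, L (KaehlerDifferential.map Λ Λ R S w) = Submodule.Quotient.mk ((1 : S) ⊗ₜ w, 0)) ∧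
      L (KaehlerDifferential.D Λ S (AdjoinRoot.root _)) = Submodule.Quotient.mk (0, 1) := by
  let Q := ((S ⊗[R] Ω[R⁄Λ]) × S) ⧸ KK p Λ R a
  haveI : IsCentralScalar S Q := inferInstance
  let dR : R →+* TrivSqZeroExt S Q :=
    { toFun := fun r => TrivSqZeroExt.inl (algebraMap R S r) +
        TrivSqZeroExt.inr (Submodule.Quotient.mk ((1 : S) ⊗ₜ KaehlerDifferential.D Λ R r, 0))
      map_one' := by
        ext
        · simp
        · simp [← Prod.zero_eq_mk]
      map_mul' := fun r r' => by
        ext
        · simp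
        · simp only [TrivSqZeroExt.snd_add, TrivSqZeroExt.snd_inl, TrivSqZeroExt.snd_inr, zero_add,
            TrivSqZeroExt.snd_mul, TrivSqZeroExt.fst_add, TrivSqZeroExt.fst_inl,
            TrivSqZeroExt.fst_inr, add_zero, op_smul_eq_smul, ← Submodule.Quotient.mk_smul,
            ← Submodule.Quotient.mk_add, algebraMap_smul, Prod.smul_mk, Prod.mk_add_mk,
            Derivation.leibniz, tmul_add, tmul_smul, smul_zero]
          rw [← Submodule.Quotient.mk_smul, ← Submodule.Quotient.mk_smul, ← Submodule.Quotient.mk_add,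
            Prod.smul_mk, Prod.smul_mk, Prod.mk_add_mk, smul_zero, smul_zero, add_zero]
      map_zero' := by
        ext
        · simp
        · simp [← Prod.zero_eq_mk]
      map_add' := fun r r' => by
        ext
        · simp
        · simp only [TrivSqZeroExt.snd_add, TrivSqZeroExt.snd_inl, TrivSqZeroExt.snd_inr, zero_add,
            map_add, tmul_add]
          rw [← Submodule.Quotient.mk_add, Prod.mk_add_mk, add_zero] }
  let xx : TrivSqZeroExt S Q := TrivSqZeroExt.inl (AdjoinRoot.root _) +
    TrivSqZeroExt.inr (Submodule.Quotient.mk (0, 1))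
  have hp0 : (p : S) = 0 := by
    rw [← map_natCast (algebraMap R S), CharP.cast_eq_zero, map_zero]
  have hroot : (AdjoinRoot.root _ : S) ^ p = algebraMap R S a := by
    have := AdjoinRoot.eval₂_root (X ^ p - C a : R[X])
    rw [eval₂_sub, eval₂_X_pow, eval₂_C, sub_eq_zero] at this
    exact this
  have hrel : (X ^ p - C a : R[X]).eval₂ dR xx = 0 := by
    rw [eval₂_sub, eval₂_X_pow, eval₂_C, sub_eq_zero]
    refine TrivSqZeroExt.ext (by simp [xx, dR, hroot]) ?_
    simp only [TrivSqZeroExt.snd_pow, ← Nat.cast_smul_eq_nsmul S, hp0, zero_smul]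
    show 0 = (dR a).snd
    simp only [dR, RingHom.coe_mk, MonoidHom.coe_mk, OneHom.coe_mk, TrivSqZeroExt.snd_add,
      TrivSqZeroExt.snd_inl, TrivSqZeroExt.snd_inr, zero_add]
    exact ((Submodule.Quotient.mk_eq_zero _).mpr (Submodule.mem_span_singleton_self _)).symm
  let ψ : S →+* TrivSqZeroExt S Q := AdjoinRoot.lift dR xx hrel
  have hfst : ∀ s, (ψ s).fst = s := by
    intro s
    induction s using AdjoinRoot.induction_on with
    | ih q =>
      induction q using Polynomial.induction_on' with
      | add q q' hq hq' => rw [map_add, map_add, TrivSqZeroExt.fst_add, hq, hq']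
      | monomial k r =>
        rw [← C_mul_X_pow_eq_monomial, map_mul, map_pow, AdjoinRoot.mk_C, AdjoinRoot.mk_X, map_mul,
          map_pow, AdjoinRoot.lift_of, AdjoinRoot.lift_root, TrivSqZeroExt.fst_mul,
          TrivSqZeroExt.fst_pow]
        simp [dR, xx]
  let D : Derivation Λ S Q :=
    { toFun := fun s => (ψ s).snd
      map_add' := fun s s' => by rw [map_add, TrivSqZeroExt.snd_add]
      map_smul' := fun l s => by
        rw [Algebra.smul_def, map_mul, TrivSqZeroExt.snd_mul, hfst, hfst, op_smul_eq_smul,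
          IsScalarTower.algebraMap_apply Λ R S, AdjoinRoot.algebraMap_eq, AdjoinRoot.lift_of]
        simp [dR, IsScalarTower.algebraMap_smul, ← AdjoinRoot.algebraMap_eq,
          ← IsScalarTower.algebraMap_apply, ← Prod.zero_eq_mk]
      map_one_eq_zero' := by
        show (ψ 1).snd = 0
        rw [map_one, TrivSqZeroExt.snd_one]
      leibniz' := fun s s' => by
        show (ψ (s * s')).snd = s • (ψ s').snd + s' • (ψ s).snd
        rw [map_mul, TrivSqZeroExt.snd_mul, hfst, hfst, op_smul_eq_smul] }
  refine ⟨D.liftKaehlerDifferential, fun w => ?_, ?_⟩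
  · have hw : w ∈ Submodule.span R (Set.range (KaehlerDifferential.D Λ R)) := by
      rw [KaehlerDifferential.span_range_derivation]; exact Submodule.mem_top
    induction hw using Submodule.span_induction with
    | mem w hw =>
      obtain ⟨r, rfl⟩ := hw
      rw [KaehlerDifferential.map_D, Derivation.liftKaehlerDifferential_comp_D]
      show (ψ (algebraMap R S r)).snd = _
      rw [AdjoinRoot.algebraMap_eq, AdjoinRoot.lift_of]
      simp [dR]
    | zero => simp [← Prod.zero_eq_mk]
    | add w w' _ _ h h' =>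
      rw [map_add, map_add, h, h', ← Submodule.Quotient.mk_add, tmul_add, Prod.mk_add_mk, add_zero]
    | smul r w _ h =>
      rw [map_smul, ← algebraMap_smul S r (KaehlerDifferential.map Λ Λ R S w), map_smul, h,
        ← Submodule.Quotient.mk_smul, Prod.smul_mk, smul_zero, algebraMap_smul, tmul_smul]
  · rw [Derivation.liftKaehlerDifferential_comp_D]
    show (ψ (AdjoinRoot.root _)).snd = _
    rw [AdjoinRoot.lift_root]
    simp [xx]

theorem exists_trace (t : ℕ) :
    ∃ Tr : (⋀[S]^(t + 1) (Ω[S⁄Λ])) →+ (⋀[R]^(t + 1) (Ω[R⁄Λ])),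
      (∀ (r : R) (ω : ⋀[S]^(t + 1) (Ω[S⁄Λ])), Tr (algebraMap R S r • ω) = r • Tr ω) ∧
      (∀ (η : Fin t → Ω[R⁄Λ]) (i : ℕ), i + 2 ≤ p →
        Tr (exteriorPower.ιMulti _ (t + 1) (Fin.snoc (fun j => KaehlerDifferential.map Λ Λ R S (η j))
          ((AdjoinRoot.root _ : S) ^ i • KaehlerDifferential.D Λ S (AdjoinRoot.root _)))) = 0) ∧
      (∀ (η : Fin t → Ω[R⁄Λ]),
        Tr (exteriorPower.ιMulti _ (t + 1) (Fin.snoc (fun j => KaehlerDifferential.map Λ Λ R S (η j))
          ((AdjoinRoot.root _ : S) ^ (p - 1) • KaehlerDifferential.D Λ S (AdjoinRoot.root _)))) =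
          exteriorPower.ιMulti R (t + 1) (Fin.snoc η (KaehlerDifferential.D Λ R a))) ∧
      (∀ (s : S) (η : Fin (t + 1) → Ω[R⁄Λ]),
        Tr (s • exteriorPower.ιMulti _ (t + 1) (fun j => KaehlerDifferential.map Λ Λ R S (η j))) = 0) := by
  obtain ⟨L, hL1, hL2⟩ := exists_derivation p Λ R a
  let d : S ⊗[R] Ω[R⁄Λ] := 1 ⊗ₜ KaehlerDifferential.D Λ R a
  let f := replaceMap (m := t + 1) (LinearMap.fst S (S ⊗[R] Ω[R⁄Λ]) S)
    (LinearMap.snd S (S ⊗[R] Ω[R⁄Λ]) S) d
  obtain ⟨g, hg⟩ := exists_alternating_quotient (KK p Λ R a) f fun v i hv => by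
    obtain ⟨s, hs⟩ := Submodule.mem_span_singleton.mp hv
    exact replaceMap_eq_zero _ _ _ v i (s := s) (by rw [← hs]; rfl) (by rw [← hs]; simp)
  let G : ExteriorAlgebra S (S ⊗[R] Ω[R⁄Λ]) →ₐ[S] S ⊗[R] ExteriorAlgebra R Ω[R⁄Λ] :=
    ExteriorAlgebra.lift S ⟨L14.DeRham.jBC, fun m => L14.DeRham.jBC_sq m⟩
  let π : ⋀[S]^(t + 1) (S ⊗[R] Ω[R⁄Λ]) →ₗ[S] S ⊗[R] ↥(⋀[R]^(t + 1) Ω[R⁄Λ]) :=
    (L14.DeRham.gradedProj (t + 1)).baseChange S ∘ₗ G.toLinearMap ∘ₗ Submodule.subtype _
  have hπ : ∀ v : Fin (t + 1) → Ω[R⁄Λ], π (exteriorPower.ιMulti S (t + 1) fun i => 1 ⊗ₜ v i) =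
      1 ⊗ₜ exteriorPower.ιMulti R (t + 1) v := by
    intro v
    have key : ∀ (q : ℕ) (v : Fin q → Ω[R⁄Λ]),
        G (ExteriorAlgebra.ιMulti S q fun i => (1 : S) ⊗ₜ v i) =
          1 ⊗ₜ ExteriorAlgebra.ιMulti R q v := by
      intro q
      induction q with
      | zero => intro v; simp [Algebra.TensorProduct.one_def]
      | succ q ih =>
        intro v
        rw [ExteriorAlgebra.ιMulti_succ_apply, ExteriorAlgebra.ιMulti_succ_apply, map_mul,
          ExteriorAlgebra.lift_ι_apply,
          show (Matrix.vecTail fun i => (1 : S) ⊗ₜ[R] v i) =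
            fun i => (1 : S) ⊗ₜ[R] Matrix.vecTail v i from rfl, ih]
        simp [L14.DeRham.jBC, Algebra.TensorProduct.tmul_mul_tmul]
    show (L14.DeRham.gradedProj (t + 1)).baseChange S (G _) = _
    rw [Submodule.subtype_apply, exteriorPower.ιMulti_apply_coe, key, LinearMap.baseChange_tmul]
    congr 1
    rw [← exteriorPower.ιMulti_apply_coe]
    exact LinearMap.congr_fun (L14.DeRham.gradedProj_subtype (A := R) (M := Ω[R⁄Λ]) (t + 1))
      (exteriorPower.ιMulti R (t + 1) v)
  -- the coefficient of `x ^ (p - 1)`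
  have : Nontrivial R := CharP.nontrivial_of_char_ne_one (Fact.out : p.Prime).ne_one
  have hpd : (X ^ p - C a : R[X]).natDegree = p := natDegree_X_pow_sub_C
  have hmon : (X ^ p - C a : R[X]).Monic := monic_X_pow_sub_C a (Fact.out : p.Prime).ne_zero
  let pb := AdjoinRoot.powerBasis' hmon
  have hdim : pb.dim = p := by rw [AdjoinRoot.powerBasis'_dim, hpd]
  let k₀ : Fin pb.dim := ⟨p - 1, by
    rw [hdim]
    exact Nat.sub_lt (Fact.out : p.Prime).pos one_pos⟩
  let c : S →ₗ[R] R := pb.basis.coord k₀
  have hc : ∀ i < p, c ((AdjoinRoot.root _ : S) ^ i) = if i = p - 1 then 1 else 0 := by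
    intro i hi
    have : (AdjoinRoot.root _ : S) ^ i = pb.basis ⟨i, hdim.symm ▸ hi⟩ := by
      rw [PowerBasis.coe_basis]
      rfl
    rw [this, Module.Basis.coord_apply, Module.Basis.repr_self, Finsupp.single_apply]
    simp [k₀, Fin.ext_iff]
  let cc : S ⊗[R] ↥(⋀[R]^(t + 1) Ω[R⁄Λ]) →ₗ[R] ↥(⋀[R]^(t + 1) Ω[R⁄Λ]) :=
    (TensorProduct.lid R _).toLinearMap ∘ₗ LinearMap.rTensor _ c
  let F : ⋀[S]^(t + 1) (Ω[S⁄Λ]) →ₗ[S] S ⊗[R] ↥(⋀[R]^(t + 1) Ω[R⁄Λ]) :=
    π ∘ₗ exteriorPower.alternatingMapLinearEquiv (g.compLinearMap L)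
  have hF : ∀ (w : Fin (t + 1) → Ω[S⁄Λ]) (v : Fin (t + 1) → (S ⊗[R] Ω[R⁄Λ]) × S),
      (∀ i, L (w i) = Submodule.Quotient.mk (v i)) →
      F (exteriorPower.ιMulti S (t + 1) w) = π (f v) := by
    intro w v h
    simp only [F, LinearMap.comp_apply, exteriorPower.alternatingMapLinearEquiv_apply_ιMulti,
      AlternatingMap.compLinearMap_apply, h, hg]
  have hsnoc : ∀ (η : Fin t → Ω[R⁄Λ]) (z : S),
      F (exteriorPower.ιMulti _ (t + 1) (Fin.snoc (fun j => KaehlerDifferential.map Λ Λ R S (η j))
        (z • KaehlerDifferential.D Λ S (AdjoinRoot.root _)))) =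
        z ⊗ₜ exteriorPower.ιMulti R (t + 1) (Fin.snoc η (KaehlerDifferential.D Λ R a)) := by
    intro η z
    rw [hF _ (Fin.snoc (fun j => ((1 : S) ⊗ₜ η j, 0)) (0, z)) (fun i => by
      refine Fin.lastCases ?_ (fun j => ?_) i
      · simp [hL2, ← Submodule.Quotient.mk_smul]
      · simp [hL1])]
    have e : f (Fin.snoc (fun j => ((1 : S) ⊗ₜ η j, 0)) (0, z)) =
        z • exteriorPower.ιMulti S (t + 1)
          (fun i => (1 : S) ⊗ₜ (Fin.snoc η (KaehlerDifferential.D Λ R a) : Fin (t + 1) → _) i) := by
      rw [replaceMap_apply, Finset.sum_eq_single (Fin.last t)]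
      · let w₀ : Fin (t + 1) → S ⊗[R] Ω[R⁄Λ] :=
          fun i => (1 : S) ⊗ₜ (Fin.snoc η (KaehlerDifferential.D Λ R a) : Fin (t + 1) → _) i
        have h1 : (fun j => if j = Fin.last t then
            (LinearMap.snd S (S ⊗[R] Ω[R⁄Λ]) S) (Fin.snoc (α := fun _ => (S ⊗[R] Ω[R⁄Λ]) × S)
              (fun j => ((1 : S) ⊗ₜ η j, 0)) (0, z) j) • d else
            (LinearMap.fst S (S ⊗[R] Ω[R⁄Λ]) S) (Fin.snoc (α := fun _ => (S ⊗[R] Ω[R⁄Λ]) × S)
              (fun j => ((1 : S) ⊗ₜ η j, 0)) (0, z) j)) =
            Function.update w₀ (Fin.last t) (z • d) := by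
          funext j
          refine Fin.lastCases ?_ (fun j => ?_) j
          · simp
          · simp [w₀, Fin.castSucc_lt_last j |>.ne]
        rw [h1, AlternatingMap.map_update_smul]
        congr 2
        funext j
        refine Fin.lastCases ?_ (fun j => ?_) j
        · simp [w₀, d]
        · simp [w₀, Fin.castSucc_lt_last j |>.ne]
      · intro i _ hi
        obtain ⟨j, rfl⟩ := Fin.exists_castSucc_eq.mpr hi
        exact (exteriorPower.ιMulti S (t + 1)).map_coord_zero (Fin.castSucc j) (by simp)
      · simp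
    rw [e, map_smul, hπ, smul_tmul', smul_eq_mul, mul_one]
  refine ⟨(cc ∘ₗ F.restrictScalars R).toAddMonoidHom, fun r ω => ?_, fun η i hi => ?_, fun η => ?_,
    fun s η => ?_⟩
  · show cc (F (algebraMap R S r • ω)) = r • cc (F ω)
    rw [map_smul, algebraMap_smul, map_smul]
  · show cc (F _) = 0
    rw [hsnoc]
    simp [cc, hc i (by omega), show i ≠ p - 1 by omega]
  · show cc (F _) = _
    rw [hsnoc]
    simp [cc, hc (p - 1) (Nat.sub_lt (Fact.out : p.Prime).pos one_pos)]
  · show cc (F _) = 0
    rw [map_smul, hF _ (fun j => ((1 : S) ⊗ₜ η j, 0)) (fun i => hL1 (η i))]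
    have : f (fun j => ((1 : S) ⊗ₜ η j, 0)) = 0 := by
      rw [replaceMap_apply]
      exact Finset.sum_eq_zero fun i _ =>
        (exteriorPower.ιMulti S (t + 1)).map_coord_zero i (by simp)
    rw [this, map_zero, smul_zero, map_zero]

end Main

end Groth.L15.FormTrace
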